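import Mathlib
import Groth.Prelude.Def_W4c6eohyperellchar2Gc

set_option autoImplicit false
universe u

namespace Groth.Agent.NilBlock8
open W4c6eohyperellchar2

variable {c : ℕ} {k : Type u} [Field k]

theorem mem_Nfil {i : ℕ} (v : GcMod c k) :
    v ∈ Nfil c k i ↔ (∀ m : Fin c, (m : ℕ) + 1 ≤ 2 * c - i → v.1 m = 0) ∧ (∀ m : Fin c, i < (m : ℕ) + 1 → v.2 m = 0) := by
  classical
  constructor
  · intro h
    induction h using Submodule.span_induction with
    | mem x hx =>
      rcases hx with ⟨n, hn, rfl⟩ | ⟨n, hn, rfl⟩
      · obtain ⟨h1, h2⟩ := hn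
        refine ⟨fun m _ => rfl, fun m hm => ?_⟩
        exact if_neg (by omega)
      · obtain ⟨h1, h2⟩ := hn
        refine ⟨fun m hm => ?_, fun m _ => rfl⟩
        exact if_neg (by omega)
    | zero => exact ⟨fun _ _ => rfl, fun _ _ => rfl⟩
    | add x y _ _ hx hy => exact ⟨fun m hm => by simp [hx.1 m hm, hy.1 m hm], fun m hm => by simp [hx.2 m hm, hy.2 m hm]⟩
    | smul r x _ hx => exact ⟨fun m hm => by simp [hx.1 m hm], fun m hm => by simp [hx.2 m hm]⟩
  · rintro ⟨h1, h2⟩
    have e : v = ∑ m : Fin c, (v.1 m • X c k ((m : ℕ) + 1) + v.2 m • Y c k ((m : ℕ) + 1)) := by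
      refine Prod.ext (funext fun l => ?_) (funext fun l => ?_)
      · simp [Prod.fst_sum, X, Y, Finset.sum_apply, Fin.val_inj]
      · simp [Prod.snd_sum, X, Y, Finset.sum_apply, Fin.val_inj]
    rw [e]
    refine Submodule.sum_mem _ fun m _ => Submodule.add_mem _ ?_ ?_
    · by_cases h : (m : ℕ) + 1 ≤ 2 * c - i
      · rw [h1 m h, zero_smul]; exact Submodule.zero_mem _
      · exact Submodule.smul_mem _ _ (Submodule.subset_span (Or.inr ⟨_, ⟨by omega, m.2⟩, rfl⟩))
    · by_cases h : i < (m : ℕ) + 1
      · rw [h2 m h, zero_smul]; exact Submodule.zero_mem _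
      · exact Submodule.smul_mem _ _ (Submodule.subset_span (Or.inl ⟨_, ⟨by omega, le_min (by omega) m.2⟩, rfl⟩))

theorem finrank_Nfil {i : ℕ} (hi : i ≤ 2 * c) : Module.finrank k (Nfil c k i) = i := by
  classical
  let e : Nfil c k i ≃ₗ[k] (({m : Fin c // 2 * c - i < (m : ℕ) + 1} → k) × ({m : Fin c // (m : ℕ) < i} → k)) :=
    { toFun := fun v => (fun m => v.1.1 m.1, fun m => v.1.2 m.1)
      invFun := fun w => ⟨(fun m => if h : 2 * c - i < (m : ℕ) + 1 then w.1 ⟨m, h⟩ else 0, fun m => if h : (m : ℕ) < i then w.2 ⟨m, h⟩ else 0),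
        (mem_Nfil _).mpr ⟨fun m hm => dif_neg (by omega), fun m hm => dif_neg (by omega)⟩⟩
      map_add' := fun a b => rfl
      map_smul' := fun a b => rfl
      left_inv := fun v => by
        obtain ⟨a1, a2⟩ := (mem_Nfil v.1).mp v.2
        refine Subtype.ext (Prod.ext (funext fun m => ?_) (funext fun m => ?_)) <;> simp only
        · split_ifs with h
          · rfl
          · exact (a1 m (by omega)).symm
        · split_ifs with h
          · rfl
          · exact (a2 m (by omega)).symm
      right_inv := fun w => Prod.ext (funext fun m => dif_pos m.2) (funext fun m => dif_pos m.2) }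
  rw [e.finrank_eq, Module.finrank_prod, Module.finrank_fintype_fun_eq_card, Module.finrank_fintype_fun_eq_card]
  rcases Nat.lt_or_ge c i with h | h
  · have h1 : Fintype.card {m : Fin c // 2 * c - i < (m : ℕ) + 1} = i - c := by
      rw [Fintype.card_congr (β := Fin (i - c))
        { toFun := fun m => ⟨(m.1 : ℕ) - (2 * c - i), by have := m.2; have := m.1.2; omega⟩
          invFun := fun l => ⟨⟨(l : ℕ) + (2 * c - i), by omega⟩, (Nat.lt_succ_of_le (Nat.le_add_left _ _))⟩
          left_inv := fun m => Subtype.ext (Fin.ext (Nat.sub_add_cancel (Nat.le_of_lt_succ m.2)))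
          right_inv := fun l => Fin.ext (Nat.add_sub_cancel_right _ _) }, Fintype.card_fin]
    have h2 : Fintype.card {m : Fin c // (m : ℕ) < i} = c := by
      rw [Fintype.card_congr (Equiv.subtypeUnivEquiv fun m : Fin c => by omega), Fintype.card_fin]
    omega
  · haveI : IsEmpty {m : Fin c // 2 * c - i < (m : ℕ) + 1} := ⟨fun m => by have := m.2; have := m.1.2; omega⟩
    have h2 : Fintype.card {m : Fin c // (m : ℕ) < i} = i := by
      rw [Fintype.card_congr (β := Fin i)
        { toFun := fun m => ⟨(m.1 : ℕ), m.2⟩
          invFun := fun l => ⟨⟨(l : ℕ), by omega⟩, l.2⟩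
          left_inv := fun m => rfl
          right_inv := fun l => rfl }, Fintype.card_fin]
    rw [Fintype.card_eq_zero, h2, zero_add]

variable [CharP k 2] [PerfectRing k 2]

theorem NV_add (a : ℕ → k) (v w : GcMod c k) : NV c k a (v + w) = NV c k a v + NV c k a w := by
  have hc : ∀ n, coefY (v + w) n = coefY v n + coefY w n := fun n => by unfold coefY; split_ifs <;> simp
  refine Prod.ext (by simp [NV]) (funext fun i => ?_)
  simp only [NV, Prod.snd_add, Pi.add_apply, Prod.fst_add, hc, add_mul, map_add]
  rw [add_add_add_comm, ← Finset.sum_add_distrib]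
  congr 1
  refine Finset.sum_congr rfl fun j _ => ?_
  split_ifs <;> simp

theorem main (a : ℕ → k) (ha : a c ≠ 0) (i : ℕ) (hi : i ≤ 2 * c) :
    Module.finrank k (Nfil c k i) = i ∧
      NV c k a '' (Nfil c k i : Set (GcMod c k)) = (Nfil c k (i / 2) : Set (GcMod c k)) ∧
      NF c k a ⁻¹' (Nfil c k i : Set (GcMod c k)) = (Nfil c k (c + (i + 1) / 2) : Set (GcMod c k)) := by
  classical
  refine ⟨finrank_Nfil hi, ?_, ?_⟩
  · have fwd : ∀ v ∈ Nfil c k i, NV c k a v ∈ Nfil c k (i / 2) := by
      intro v hv
      rw [mem_Nfil] at hv ⊢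
      refine ⟨fun m _ => rfl, fun m hm => ?_⟩
      have h1 : coefY v (2 * ((m : ℕ) + 1)) = 0 := by
        unfold coefY; split_ifs with h
        · exact hv.2 _ (by simp only; omega)
        · rfl
      simp only [NV, h1, map_zero, zero_add]
      refine Finset.sum_eq_zero fun j _ => ?_
      split_ifs with h
      · rw [hv.1 j (by omega), zero_mul, map_zero]
      · rfl
    apply Set.Subset.antisymm
    · rintro _ ⟨v, hv, rfl⟩; exact fwd v hv
    · have key : ∀ q, q ≤ i / 2 → ∀ w : GcMod c k, w.1 = 0 → (∀ m : Fin c, q < (m : ℕ) + 1 → w.2 m = 0) →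
          ∃ v ∈ Nfil c k i, NV c k a v = w := by
        intro q
        induction q with
        | zero =>
          intro _ w h1 h2
          refine ⟨0, Submodule.zero_mem _, ?_⟩
          have hw : w = 0 := Prod.ext h1 (funext fun m => h2 m (by omega))
          have hz : NV c k a (0 : GcMod c k) = 0 := by
            have := NV_add a (0 : GcMod c k) 0
            rwa [add_zero, left_eq_add] at this
          rw [hw, hz]
        | succ q ih =>
          intro hq w h1 h2
          have hqc : q < c := by omega
          suffices hv : ∃ v ∈ Nfil c k i, (NV c k a v).2 ⟨q, hqc⟩ = w.2 ⟨q, hqc⟩ ∧ ∀ m : Fin c, q + 1 < (m : ℕ) + 1 → (NV c k a v).2 m = 0 by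
            obtain ⟨v, hv1, hv2, hv3⟩ := hv
            obtain ⟨u, hu1, hu2⟩ := ih (by omega) (w - NV c k a v) (by simp [h1, NV]) (fun m hm => by
              rcases Nat.lt_or_ge (q + 1) ((m : ℕ) + 1) with h | h
              · simp [h2 m h, hv3 m h]
              · rw [show m = ⟨q, hqc⟩ from Fin.ext (by simp only; omega)]; simp [hv2])
            exact ⟨v + u, Submodule.add_mem _ hv1 hu1, by rw [NV_add, hu2]; abel⟩
          by_cases h2q : 2 * (q + 1) ≤ c
          · let v : GcMod c k := (0, Pi.single ⟨2 * (q + 1) - 1, by omega⟩ (w.2 ⟨q, hqc⟩ ^ 2))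
            have hcy : ∀ n, coefY v n = if n = 2 * (q + 1) then w.2 ⟨q, hqc⟩ ^ 2 else 0 := by
              intro n
              unfold coefY
              split_ifs with h h' h'
              · subst h'; simp [v]
              · exact Pi.single_eq_of_ne (fun e => h' (by have := congrArg Fin.val e; simp only at this; omega)) _
              · omega
              · rfl
            refine ⟨v, (mem_Nfil _).mpr ⟨fun m _ => rfl, fun m hm => Pi.single_eq_of_ne (fun h => by have := congrArg Fin.val h; simp only at this; omega) _⟩, ?_, fun m hm => ?_⟩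
            · simp only [NV, hcy, if_true]
              rw [show v.1 = 0 from rfl]
              simp
            · simp only [NV, hcy, if_neg (show 2 * ((m : ℕ) + 1) ≠ 2 * (q + 1) by omega)]
              rw [show v.1 = 0 from rfl]
              simp
          · let t := c - (q + 1)
            let jj : Fin c := ⟨2 * t, by omega⟩
            let v : GcMod c k := (Pi.single jj (w.2 ⟨q, hqc⟩ ^ 2 / a c), 0)
            have hcy : ∀ n, coefY v n = 0 := fun n => by unfold coefY; split_ifs <;> rfl
            have hval : ∀ m : Fin c, (NV c k a v).2 m = if (m : ℕ) + 1 + t ≤ c then (frobeniusEquiv k 2).symm (w.2 ⟨q, hqc⟩ ^ 2 / a c * a ((m : ℕ) + 1 + t)) else 0 := by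
              intro m
              simp only [NV, hcy, map_zero, zero_add]
              rw [Finset.sum_eq_single jj (fun j _ hj => by simp [v, hj]) (by simp)]
              have e1 : (jj : ℕ) / 2 = t := by show 2 * t / 2 = t; omega
              have e2 : ((jj : ℕ) + 1) % 2 = 1 := by show (2 * t + 1) % 2 = 1; omega
              simp only [e1, e2, true_and]
              simp [v]
            refine ⟨v, (mem_Nfil _).mpr ⟨fun m hm => Pi.single_eq_of_ne (fun h => by have := congrArg Fin.val h; simp only [jj, t] at this; omega) _, fun m _ => rfl⟩, ?_, fun m hm => ?_⟩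
            · rw [hval, if_pos (by show q + 1 + t ≤ c; omega)]
              show (frobeniusEquiv k 2).symm (_ * a (q + 1 + t)) = _
              rw [show q + 1 + t = c by omega, div_mul_cancel₀ _ ha, show w.2 ⟨q, hqc⟩ ^ 2 = frobeniusEquiv k 2 (w.2 ⟨q, hqc⟩) from rfl, RingEquiv.symm_apply_apply]
            · rw [hval, if_neg (by omega)]
      intro w hw
      obtain ⟨h1, h2⟩ := (mem_Nfil w).mp hw
      obtain ⟨v, hv, rfl⟩ := key (i / 2) le_rfl w (funext fun m => h1 m (by omega)) h2
      exact ⟨v, hv, rfl⟩
  · ext v
    simp only [Set.mem_preimage, SetLike.mem_coe, mem_Nfil]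
    constructor
    · rintro ⟨g1, g2⟩
      refine ⟨?_, fun m hm => absurd hm (by omega)⟩
      suffices h : ∀ n (m : Fin c), (m : ℕ) = n → (m : ℕ) + 1 ≤ 2 * c - (c + (i + 1) / 2) → v.1 m = 0 from fun m => h _ m rfl
      intro n
      induction n using Nat.strong_induction_on with
      | _ n ih =>
        intro m hmn hm
        by_cases h2m : 2 * ((m : ℕ) + 1) ≤ c
        · have := g1 ⟨2 * ((m : ℕ) + 1) - 1, by omega⟩ (by simp only; omega)
          simp only [NF] at this
          rw [if_pos (by omega)] at this
          rw [show (2 * ((m : ℕ) + 1) - 1 + 1) / 2 = (m : ℕ) + 1 by omega] at this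
          unfold coefX at this
          rw [dif_pos (by omega)] at this
          simpa using this
        · have := g2 ⟨2 * (c - ((m : ℕ) + 1)), by omega⟩ (by simp only; omega)
          simp only [NF] at this
          rw [if_pos (by omega), Finset.sum_eq_single m ?_ (by simp), if_pos (by omega)] at this
          · rw [show (m : ℕ) + 1 + 2 * (c - ((m : ℕ) + 1)) / 2 = c by omega] at this
            simpa [ha] using this
          · intro j _ hj
            split_ifs with hc'
            · have hjm : (j : ℕ) < m := by
                have : (j : ℕ) ≠ m := fun h => hj (Fin.ext h)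
                omega
              rw [ih j (by omega) j rfl (by omega)]; simp
            · rfl
    · rintro ⟨g1, -⟩
      refine ⟨fun m hm => ?_, fun m hm => ?_⟩
      · simp only [NF]
        split_ifs with h
        · unfold coefX
          split_ifs with h'
          · rw [g1 _ (by simp only; omega)]; simp
          · simp
        · rfl
      · simp only [NF]
        split_ifs with h
        · refine Finset.sum_eq_zero fun j _ => ?_
          split_ifs with h'
          · rw [g1 j (by omega)]; simp
          · rfl
        · rfl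

end Groth.Agent.NilBlock8
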